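import Cfsg.Agent.Lib.U62Aut.Model.VecChecks
import Cfsg.Agent.Lib.U62Rec.Model.OtherFacts

/-!
Kernel checks for the finite facts on the semilinear unitary group used with a 2-core that is a direct
product of a group of order two and an extraspecial group: transvections with centre the first point, the
chosen product of two transvections and the two representatives of the outer involutions.
-/

set_option autoImplicit false
set_option maxRecDepth 100000

namespace Cfsg.Agent.Fi22Two

open Cfsg.Agent.PermCert Cfsg.Agent.U62Rec.Model Cfsg.Agent.U62Aut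

theorem s0_count : (Finset.univ.filter fun v : Vec => s0C v = v).card = 16 := by decide +kernel

theorem rep_count16 : ∀ k : Fin 2, (Finset.univ.filter fun v : Vec => repC' k v = v).card = 16 := by decide +kernel

/-- The commutator vectors of the transvection with centre the first point. -/
def im0 : List ℕ := [0, 5, 10, 15]

theorem tv0_im : (∀ v : Vec, Nat.xor v (tvC 0 v) ∈ im0) ∧
    ∀ w ∈ im0, q0 w = 0 ∧ w < 256 ∧ ∃ v : Vec, Nat.xor v (tvC 0 v) = w := by decide +kernel

theorem tv0_count : (Finset.univ.filter fun v : Vec => tvC 0 v = v).card = 64 := by decide +kernel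

theorem tv0_two : ∀ q : Pt, (q : ℕ) ≠ 0 →
    (Finset.univ.filter fun v : Vec => tvC 0 v = v ∧ tvC q v = v).card ≤ 16 := by decide +kernel

/-- A product of two transvections fixing the first point. -/
def xC (v : ℕ) : ℕ := tvC 15 (tvC 25 v)

/-- A product of four transvections multiplying the first point by a scalar. -/
def kC (v : ℕ) : ℕ := tvC 1 (tvC 2 (tvC 4 (tvC 5 v)))

/-- A product of four transvections centralising the chosen product. -/
def yC (v : ℕ) : ℕ := tvC 4 (tvC 5 (tvC 13 (tvC 14 v)))

theorem odd_facts : ∀ v : Vec, xC (xC (xC v)) = v ∧ kC (kC (kC v)) = v ∧ yC (yC (yC v)) = v ∧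
    xC (tvC 0 v) = tvC 0 (xC v) ∧ kC (tvC 0 v) = tvC 0 (kC v) ∧ xC (kC v) = kC (xC v) ∧
    yC (s0C v) = s0C (yC v) := by decide +kernel

theorem odd_fix : (∀ w ∈ im0, xC w = w ∧ (kC w = w → w = 0)) ∧
    ∀ v : Vec, tvC 0 v = v → xC v = v → (v : ℕ) ∈ im0 := by decide +kernel

/-- Fixed vectors of the chosen product spanning its fixed space. -/
def basL : List ℕ := [5, 10, repC 15, omC (repC 15)]

/-- A map fixes the vectors of a list. -/
def fixList (l : List ℕ) (f : ℕ → ℕ) : Bool := l.all fun v => Nat.beq (f v) v

/-- An involution fixing the fixed space: the chosen product or moved. -/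
def oddCase (f : ℕ → ℕ) : Bool :=
  !fixList basL f || !same8 (fun v => yC (f v)) (fun v => f (yC v)) || same8 f s0C

/-- The product with the chosen one is a transvection. -/
def tvCase (f : ℕ → ℕ) : Bool := (List.range 45).any fun r => same8 (fun v => s0C (f v)) (tvC r)

theorem basL_fix : ∀ w ∈ basL, w < 256 ∧ s0C w = w := by decide +kernel

theorem odd_one : allBelow (fun q => oddCase (tvC q) || tvCase (tvC q)) 45 = true := by decide +kernel

theorem odd_two : allBelow (fun q => allBelow (fun r => !adjB q r || oddCase (fun v => tvC q (tvC r v))) 45) 45 =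
    true := by decide +kernel

/-- The fixed singular vectors of a representative. -/
def singFix (k : ℕ) : List ℕ :=
  bif Nat.beq k 0 then [0, 5, 11, 14, 80, 85, 91, 94, 176, 181, 187, 190, 224, 229, 235, 238]
  else [0, 5, 17, 20, 65, 68, 80, 85]

theorem singFix_spec : ∀ k : Fin 2, ∀ w ∈ singFix k, w < 256 ∧ repC' k w = w ∧ q0 w = 0 := by decide +kernel

/-- An inner involution commuting with a representative: one of the two conditions fails. -/
def outerCase (k : ℕ) (f : ℕ → ℕ) : Bool :=
  !fixList (singFix k) f ||
    (List.range 256).any fun v =>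
      Nat.beq (f (repC' k v)) v && Nat.beq (q0 v) 0 && !Nat.beq (repC' k v) v

theorem outer_one : allBelow (fun k => allBelow (fun q => outerCase k (tvC q)) 45) 2 = true := by decide +kernel

theorem outer_two : allBelow (fun k => allBelow (fun q => allBelow
    (fun r => !adjB q r || outerCase k (fun v => tvC q (tvC r v))) 45) 45) 2 = true := by decide +kernel

/-- Five points of a line. -/
def fiveC : List ℕ := [0, 15, 16, 20, 24]

theorem five_facts : fiveC.Nodup ∧ (∀ i : Fin 5, ∀ j : Fin 5, i ≠ j →
      adjB (fiveC.getD i 0) (fiveC.getD j 0) = true) ∧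
    (∀ v : Vec, tvC 0 (tvC 15 (tvC 16 (tvC 20 (tvC 24 v)))) = v) ∧
    ∀ l ∈ [16, 20, 24], ∀ v : Vec, s0C (Nat.xor v (tvC l v)) = Nat.xor v (tvC l v) := by decide +kernel

end Cfsg.Agent.Fi22Two
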