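import Cfsg.Agent.Lib.Fi22Two.Defs
import Cfsg.Agent.Lib.Fi22Two.Model.Checks
import Cfsg.Agent.Lib.U62Aut.Model.Bridge

/-!
The finite facts on the semilinear unitary group: the shapes of the fixed and commutator vectors of its
involutions, elements of order three separating commuting involutions, and products of commuting
transvections.
-/

set_option autoImplicit false
set_option maxRecDepth 20000

namespace Cfsg.Agent.Fi22Two

open Cfsg.Agent.PermCert U62Rec.Model U62Aut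

/-! ### Conjugation -/

theorem agrp_apply_inv (γ : Agrp) (v : Vec) : γ⁻¹.1 (γ.1 v) = v := perm_inv_self γ.1 v

theorem agrp_inv_apply (γ : Agrp) (v : Vec) : γ.1 (γ⁻¹.1 v) = v := perm_self_inv γ.1 v

theorem agrp_mul_apply (a b : Agrp) (v : Vec) : (a * b).1 v = a.1 (b.1 v) := rfl

theorem fixV_conj (γ σ : Agrp) : fixV (γ * σ * γ⁻¹) = γ.1 '' fixV σ := by
  ext v
  simp only [fixV, Set.mem_setOf_eq, Set.mem_image, agrp_mul_apply]
  constructor
  · intro h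
    exact ⟨γ⁻¹.1 v, γ.1.injective (h.trans (agrp_inv_apply γ v).symm), agrp_inv_apply γ v⟩
  · rintro ⟨w, hw, rfl⟩
    rw [agrp_apply_inv, hw]

theorem imV_conj (γ σ : Agrp) : imV (γ * σ * γ⁻¹) = γ.1 '' imV σ := by
  ext v
  simp only [imV, Set.mem_range, Set.mem_image, agrp_mul_apply]
  constructor
  · rintro ⟨y, rfl⟩
    exact ⟨_, ⟨γ⁻¹.1 y, rfl⟩, by rw [semi_xor γ.2, agrp_inv_apply]⟩
  · rintro ⟨_, ⟨y, rfl⟩, rfl⟩
    exact ⟨γ.1 y, by rw [agrp_apply_inv, semi_xor γ.2]⟩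

theorem ncard_fixV {σ : Agrp} {f : ℕ → ℕ} (hf : ∀ v : Vec, (σ.1 v : ℕ) = f v) :
    (fixV σ).ncard = (Finset.univ.filter fun v : Vec => f v = v).card := by
  classical
  rw [← Set.ncard_coe_finset]
  refine congrArg Set.ncard (Set.ext fun v => ?_)
  simp [fixV, Fin.ext_iff, hf]

theorem lin_conj {γ : Equiv.Perm Vec} (hγ : γ ∈ Agrp) {x : Equiv.Perm Vec} (hx : x ∈ Lgrp) :
    γ * x * γ⁻¹ ∈ Lgrp := conj_lin hγ hx

theorem xorV_cancel (a b : Vec) : xorV a (xorV a b) = b := Fin.ext (by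
  show Nat.xor a (Nat.xor a b) = b
  exact Nat.xor_xor_cancel_left a b)

theorem xorV_comm' (a b : Vec) : xorV a b = xorV b a := Fin.ext (Nat.xor_comm a b)

/-! ### The transvections -/

theorem tvA_val (p : Pt) (v : Vec) : ((tvA p).1 v : ℕ) = tvC p v := rfl

theorem tvA_mem (p : Pt) : (tvA p).1 ∈ Lgrp := tvV_mem p

theorem aHom_tvA (p : Pt) : aHom (tvA p) = tvP p := aHom_tv p

theorem tvA_eq {σ : Agrp} {p : Pt} (h : aHom σ = tvP p) : σ = tvA p := Subtype.ext (eq_tvA h)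

theorem tvA_sq (p : Pt) : tvA p * tvA p = 1 :=
  aHom_injective (by rw [map_mul, aHom_tvA, tvP_sq, map_one])

theorem tvA_conj (γ : Agrp) (p : Pt) : γ * tvA p * γ⁻¹ = tvA (aHom γ p) :=
  tvA_eq (by rw [map_mul, map_mul, map_inv, aHom_tvA, tvP_conjA (aHom_mem γ)])

/-- The first point. -/
def p0 : Pt := ⟨0, by norm_num⟩

theorem exists_tv_std (p : Pt) : ∃ γ : Agrp, γ.1 ∈ Lgrp ∧ tvA p = γ * tvA p0 * γ⁻¹ := by
  obtain ⟨g, hg, e⟩ := exists_move p0 p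
  obtain ⟨γ, rfl⟩ := exists_lin hg
  refine ⟨⟨γ.1, lin_le γ.2⟩, γ.2, ?_⟩
  rw [tvA_conj, aHom_lin (g := ⟨γ.1, lin_le γ.2⟩) γ.2, e]

theorem imV_tv0 : imV (tvA p0) = {v : Vec | (v : ℕ) ∈ im0} := by
  ext v
  simp only [imV, Set.mem_range, Set.mem_setOf_eq]
  constructor
  · rintro ⟨y, rfl⟩
    exact tv0_im.1 y
  · intro h
    obtain ⟨-, -, y, hy⟩ := tv0_im.2 _ h
    exact ⟨y, Fin.ext hy⟩

theorem fix_im {σ : Agrp} (h2 : σ * σ = 1) : imV σ ⊆ fixV σ := by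
  rintro _ ⟨y, rfl⟩
  show σ.1 (xorV y (σ.1 y)) = xorV y (σ.1 y)
  rw [semi_xor σ.2, ← agrp_mul_apply, h2, xorV_comm']
  rfl

theorem tv_shape (p : Pt) : (fixV (tvA p)).ncard = 64 ∧ (imV (tvA p)).ncard = 4 ∧
    (∀ v ∈ imV (tvA p), q0 v = 0) ∧ imV (tvA p) ⊆ fixV (tvA p) := by
  refine ⟨?_, ?_, ?_, fix_im (tvA_sq p)⟩ <;> obtain ⟨γ, -, e⟩ := exists_tv_std p <;> rw [e]
  · rw [fixV_conj, Set.ncard_image_of_injective _ γ.1.injective, ncard_fixV (f := tvC 0) fun v => tvA_val p0 v]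
    exact tv0_count
  · rw [imV_conj, Set.ncard_image_of_injective _ γ.1.injective, imV_tv0]
    have h4 : (Finset.univ.filter fun v : Vec => (v : ℕ) ∈ im0).card = 4 := by decide +kernel
    rw [← h4, ← Set.ncard_coe_finset]
    exact congrArg Set.ncard (Set.ext fun v => by simp)
  · rw [imV_conj]
    rintro _ ⟨v, hv, rfl⟩
    rw [semi_q γ.2]
    rw [imV_tv0] at hv
    exact (tv0_im.2 _ hv).1

/-! ### The classes of involutions -/

theorem std_prod {σ : Agrp} (hL : σ.1 ∈ Lgrp) (h2 : σ * σ = 1) (h1 : σ ≠ 1) (hno : ∀ p, σ ≠ tvA p) :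
    ∃ γ : Agrp, γ.1 ∈ Lgrp ∧ σ = γ * ⟨s0V, lin_le s0V_mem⟩ * γ⁻¹ := by
  obtain ⟨γ, hγ, e⟩ := exists_std (σ := ⟨σ.1, hL⟩)
    (Subtype.ext (congrArg (fun a : Agrp => a.1) h2))
    (fun h => h1 (Subtype.ext (congrArg (fun a : Lgrp => a.1) h)))
    (fun p h => hno p (tvA_eq ((aHom_lin hL).trans h)))
  exact ⟨⟨γ, lin_le hγ⟩, hγ, Subtype.ext e⟩

theorem inner_cases {σ : Agrp} (hL : σ.1 ∈ Lgrp) (h2 : σ * σ = 1) (h1 : σ ≠ 1) :
    (∃ q, σ = tvA q) ∨ ∃ q r, adjP q r ∧ σ = tvA q * tvA r := by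
  rcases inv_cases (aHom_mem σ) (by rw [← map_mul, h2, map_one])
    (fun e => h1 (aHom_injective (e.trans (map_one aHom).symm))) with ⟨p, e⟩ | ⟨q, r, hadj, e⟩ | ⟨k, hk, hc⟩
  · exact Or.inl ⟨p, tvA_eq e⟩
  · exact Or.inr ⟨q, r, hadj, aHom_injective (by rw [e, map_mul, aHom_tvA, aHom_tvA])⟩
  · exfalso
    obtain ⟨γ, hγ, e⟩ := hc
    refine (repP_facts hk).2.2.2.1 ((conj_grp_iff (grp_le hγ)).1 ?_)
    rw [← e, aHom_lin hL]
    exact ptHom_mem _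

theorem outer_cases {σ : Agrp} (hL : σ.1 ∉ Lgrp) (h2 : σ * σ = 1) :
    ∃ k : Fin 2, ∃ γ : Agrp, γ.1 ∈ Lgrp ∧ σ = γ * ⟨repV' k, repV_mem k⟩ * γ⁻¹ := by
  have h1 : σ ≠ 1 := fun e => hL (by rw [e]; exact one_mem _)
  rcases inv_cases (aHom_mem σ) (by rw [← map_mul, h2, map_one])
    (fun e => h1 (aHom_injective (e.trans (map_one aHom).symm))) with ⟨p, e⟩ | ⟨q, r, -, e⟩ | ⟨k, hk, hc⟩
  · exact absurd (aHom_inner (e ▸ tvP_mem p)) hL
  · exact absurd (aHom_inner (e ▸ mul_mem (tvP_mem q) (tvP_mem r))) hL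
  · obtain ⟨γ, hγ, e⟩ := exists_rep (k := ⟨k, hk⟩) hc
    exact ⟨⟨k, hk⟩, ⟨γ, lin_le hγ⟩, hγ, Subtype.ext e⟩

theorem inv_shape {σ : Agrp} (h2 : σ * σ = 1) (h1 : σ ≠ 1) :
    (∃ p, σ = tvA p) ∨
      ((fixV σ).ncard = 16 ∧ fixV σ = imV σ ∧ (σ.1 ∈ Lgrp → ∀ v ∈ fixV σ, q0 v = 0)) := by
  classical
  by_cases hL : σ.1 ∈ Lgrp
  · by_cases hp : ∃ p, σ = tvA p
    · exact Or.inl hp
    push Not at hp
    right
    obtain ⟨γ, hγ, rfl⟩ := std_prod hL h2 h1 hp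
    have hval : ∀ v : Vec, ((⟨s0V, lin_le s0V_mem⟩ : Agrp).1 v : ℕ) = s0C v := s0V_val
    refine ⟨?_, Set.Subset.antisymm ?_ (fix_im h2), fun _ => ?_⟩
    · rw [fixV_conj, Set.ncard_image_of_injective _ γ.1.injective, ncard_fixV hval]
      exact s0_count
    · rw [fixV_conj, imV_conj]
      refine Set.image_mono fun v hv => ?_
      have hv' : s0C v = v := (hval v).symm.trans (congrArg Fin.val hv)
      obtain ⟨-, ⟨y, hy, hye⟩, -⟩ := other_spec.2.2 v v.2 hv'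
      exact ⟨⟨y, hy⟩, Fin.ext (by show Nat.xor y (s0V ⟨y, hy⟩ : ℕ) = v; rw [s0V_val]; exact hye)⟩
    · rw [fixV_conj]
      rintro _ ⟨v, hv, rfl⟩
      rw [semi_q γ.2]
      exact (other_spec.2.2 v v.2 ((hval v).symm.trans (congrArg Fin.val hv))).1
  · right
    obtain ⟨k, γ, hγ, rfl⟩ := outer_cases hL h2
    have hval : ∀ v : Vec, ((⟨repV' k, repV_mem k⟩ : Agrp).1 v : ℕ) = repC' k v := repV_val k
    refine ⟨?_, Set.Subset.antisymm ?_ (fix_im h2), fun h => absurd h hL⟩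
    · rw [fixV_conj, Set.ncard_image_of_injective _ γ.1.injective, ncard_fixV hval]
      exact rep_count16 k
    · rw [fixV_conj, imV_conj]
      refine Set.image_mono fun v hv => ?_
      obtain ⟨y, hy⟩ := rep_fix (σ := repV' k) (γ := 1) (k := k) (one_mem _)
        (by rw [one_mul, inv_one, mul_one]) (x := v) hv
      exact ⟨y, hy⟩

theorem tv_two {p : Pt} {σ : Agrp} (h2 : σ * σ = 1) (h1 : σ ≠ 1) (hne : σ ≠ tvA p) :
    (fixV (tvA p) ∩ fixV σ).ncard ≤ 16 := by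
  classical
  rcases inv_shape h2 h1 with ⟨q, rfl⟩ | ⟨h16, -⟩
  swap
  · exact (Set.ncard_le_ncard Set.inter_subset_right (Set.toFinite _)).trans h16.le
  obtain ⟨γ, -, e⟩ := exists_tv_std p
  obtain ⟨r, hr⟩ : ∃ r, r = aHom γ⁻¹ q := ⟨_, rfl⟩
  have eq' : tvA q = γ * tvA r * γ⁻¹ := by
    rw [hr, ← tvA_conj γ⁻¹ q]; group
  have hr0 : (r : ℕ) ≠ 0 := fun h => hne (by rw [eq', e, show r = p0 from Fin.ext h])
  rw [e, eq', fixV_conj, fixV_conj, ← Set.image_inter γ.1.injective,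
    Set.ncard_image_of_injective _ γ.1.injective]
  refine le_trans (le_of_eq ?_) (tv0_two r hr0)
  rw [← Set.ncard_coe_finset]
  refine congrArg Set.ncard (Set.ext fun v => ?_)
  simp [fixV, Fin.ext_iff, tvA_val, p0]

/-! ### Elements of order three -/

/-- A product of two transvections fixing the first point. -/
def xA : Agrp := tvA ⟨15, by norm_num⟩ * tvA ⟨25, by norm_num⟩

/-- A product of four transvections multiplying the first point by a scalar. -/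
def kA : Agrp := tvA ⟨1, by norm_num⟩ * tvA ⟨2, by norm_num⟩ * tvA ⟨4, by norm_num⟩ * tvA ⟨5, by norm_num⟩

/-- A product of four transvections centralising the chosen product. -/
def yA : Agrp := tvA ⟨4, by norm_num⟩ * tvA ⟨5, by norm_num⟩ * tvA ⟨13, by norm_num⟩ * tvA ⟨14, by norm_num⟩

theorem xA_val (v : Vec) : (xA.1 v : ℕ) = xC v := rfl

theorem kA_val (v : Vec) : (kA.1 v : ℕ) = kC v := rfl

theorem yA_val (v : Vec) : (yA.1 v : ℕ) = yC v := rfl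

theorem xA_mem : xA.1 ∈ Lgrp := mul_mem (tvA_mem _) (tvA_mem _)

theorem kA_mem : kA.1 ∈ Lgrp := mul_mem (mul_mem (mul_mem (tvA_mem _) (tvA_mem _)) (tvA_mem _)) (tvA_mem _)

theorem yA_mem : yA.1 ∈ Lgrp := mul_mem (mul_mem (mul_mem (tvA_mem _) (tvA_mem _)) (tvA_mem _)) (tvA_mem _)

theorem agrp_ext {a b : Agrp} (h : ∀ v : Vec, (a.1 v : ℕ) = b.1 v) : a = b :=
  Subtype.ext (Equiv.ext fun v => Fin.ext (h v))

theorem cube_of {a : Agrp} {f : ℕ → ℕ} (hf : ∀ v : Vec, (a.1 v : ℕ) = f v) (h : ∀ v : Vec, f (f (f v)) = v) :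
    a ^ 3 = 1 :=
  agrp_ext fun v => by
    rw [show a ^ 3 = a * a * a by rw [pow_succ, pow_two], agrp_mul_apply, agrp_mul_apply, hf, hf, hf, h]
    rfl

theorem commute_of {a b : Agrp} {f g : ℕ → ℕ} (hf : ∀ v : Vec, (a.1 v : ℕ) = f v)
    (hg : ∀ v : Vec, (b.1 v : ℕ) = g v) (h : ∀ v : Vec, f (g v) = g (f v)) : Commute a b :=
  agrp_ext fun v => by rw [agrp_mul_apply, agrp_mul_apply, hf, hg, hg, hf, h]

theorem commute_of_conj {γ a b : Agrp} (h : Commute (γ * a * γ⁻¹) (γ * b * γ⁻¹)) : Commute a b := by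
  have h1 := h.eq
  rw [show γ * a * γ⁻¹ * (γ * b * γ⁻¹) = γ * (a * b) * γ⁻¹ by group,
    show γ * b * γ⁻¹ * (γ * a * γ⁻¹) = γ * (b * a) * γ⁻¹ by group] at h1
  exact mul_left_cancel (mul_right_cancel h1)

theorem conj_pow_three {γ x : Agrp} (h : x ^ 3 = 1) : (γ * x * γ⁻¹) ^ 3 = 1 := by
  rw [conj_pow, h]; group

theorem tv_odd (p : Pt) : ∃ x k : Agrp, x.1 ∈ Lgrp ∧ k.1 ∈ Lgrp ∧ x ^ 3 = 1 ∧ k ^ 3 = 1 ∧
    Commute x (tvA p) ∧ Commute k (tvA p) ∧ Commute x k ∧ (∀ v ∈ imV (tvA p), x.1 v = v) ∧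
    (∀ v ∈ fixV (tvA p), x.1 v = v → v ∈ imV (tvA p)) ∧
    (∀ v ∈ imV (tvA p), k.1 v = v → v = zeroV) := by
  obtain ⟨γ, hγ, e⟩ := exists_tv_std p
  rw [e]
  refine ⟨γ * xA * γ⁻¹, γ * kA * γ⁻¹, lin_conj γ.2 xA_mem, lin_conj γ.2 kA_mem,
    conj_pow_three (cube_of xA_val fun v => (odd_facts v).1),
    conj_pow_three (cube_of kA_val fun v => (odd_facts v).2.1),
    (commute_of xA_val (fun v => tvA_val p0 v) fun v => (odd_facts v).2.2.2.1).map (MulAut.conj γ).toMonoidHom,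
    (commute_of kA_val (fun v => tvA_val p0 v) fun v => (odd_facts v).2.2.2.2.1).map (MulAut.conj γ).toMonoidHom,
    (commute_of xA_val kA_val fun v => (odd_facts v).2.2.2.2.2.1).map (MulAut.conj γ).toMonoidHom, ?_, ?_, ?_⟩
  · rw [imV_conj, imV_tv0]
    rintro _ ⟨v, hv, rfl⟩
    rw [agrp_mul_apply, agrp_mul_apply, agrp_apply_inv]
    exact congrArg γ.1 (Fin.ext ((xA_val v).trans (odd_fix.1 _ hv).1))
  · rw [fixV_conj, imV_conj, imV_tv0]
    rintro _ ⟨v, hv, rfl⟩ hx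
    rw [agrp_mul_apply, agrp_mul_apply, agrp_apply_inv] at hx
    exact ⟨v, odd_fix.2 v ((tvA_val p0 v).symm.trans (congrArg Fin.val hv))
      ((xA_val v).symm.trans (congrArg Fin.val (γ.1.injective hx))), rfl⟩
  · rw [imV_conj, imV_tv0]
    rintro _ ⟨v, hv, rfl⟩ hk
    rw [agrp_mul_apply, agrp_mul_apply, agrp_apply_inv] at hk
    have h0 : v = zeroV := Fin.ext
      ((odd_fix.1 _ hv).2 ((kA_val v).symm.trans (congrArg Fin.val (γ.1.injective hk))))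
    rw [h0]
    exact semi_zero γ.2

theorem same8_spec {f g : ℕ → ℕ} (h : same8 f g = true) : ∀ v < 256, f v = g v := fun v hv =>
  Nat.eq_of_beq_eq_true (allBelow_spec _ _ h v hv)

theorem oddCase_spec {τ : Agrp} {f : ℕ → ℕ} (hf : ∀ v : Vec, (τ.1 v : ℕ) = f v)
    (hfix : ∀ v : Vec, s0C v = v → τ.1 v = v) (h : oddCase f = true) :
    τ = ⟨s0V, lin_le s0V_mem⟩ ∨ ¬ Commute yA τ := by
  simp only [oddCase, Bool.or_eq_true, Bool.not_eq_true', ← Bool.not_eq_true, fixList, List.all_eq_true,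
    Nat.beq_eq] at h
  rcases h with (h | h) | h
  · refine absurd (fun w hw => ?_) h
    obtain ⟨hlt, hs⟩ := basL_fix w hw
    exact (hf ⟨w, hlt⟩).symm.trans (congrArg Fin.val (hfix ⟨w, hlt⟩ hs))
  · refine Or.inr fun hc => h (allBelow_intro fun v hv => Nat.beq_eq.mpr ?_)
    have e := congrArg (fun a : Agrp => (a.1 ⟨v, hv⟩ : ℕ)) hc.eq
    simp only [agrp_mul_apply, yA_val, hf] at e
    exact e
  · exact Or.inl (agrp_ext fun v => by rw [hf, same8_spec h v v.2]; exact (s0V_val v).symm)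

theorem tvCase_spec {τ : Agrp} {f : ℕ → ℕ} (hf : ∀ v : Vec, (τ.1 v : ℕ) = f v) (h : tvCase f = true) :
    ∃ p, (⟨s0V, lin_le s0V_mem⟩ : Agrp) * τ = tvA p := by
  simp only [tvCase, List.any_eq_true, List.mem_range] at h
  obtain ⟨r, hr, h⟩ := h
  refine ⟨⟨r, hr⟩, agrp_ext fun v => ?_⟩
  rw [agrp_mul_apply, tvA_val]
  show (s0V (τ.1 v) : ℕ) = _
  rw [s0V_val, hf]
  exact same8_spec h v v.2

theorem good_odd {σ τ : Agrp} (hL : σ.1 ∈ Lgrp) (h2 : σ * σ = 1) (h1 : σ ≠ 1) (hno : ∀ p, σ ≠ tvA p)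
    (ht2 : τ * τ = 1) (hfix : ∀ v ∈ fixV σ, τ.1 v = v) :
    τ = 1 ∨ τ = σ ∨ ((∃ p, τ = tvA p) ∧ ∃ p, σ * τ = tvA p) ∨
      ∃ x : Agrp, x.1 ∈ Lgrp ∧ x ^ 3 = 1 ∧ Commute x σ ∧ ¬ Commute x τ := by
  classical
  obtain ⟨γ, hγ, e⟩ := std_prod hL h2 h1 hno
  obtain ⟨s, hs⟩ : ∃ s : Agrp, s = ⟨s0V, lin_le s0V_mem⟩ := ⟨_, rfl⟩
  rw [← hs] at e
  obtain ⟨t, ht⟩ : ∃ t, t = γ⁻¹ * τ * γ := ⟨_, rfl⟩
  have eτ : τ = γ * t * γ⁻¹ := by rw [ht]; group
  have hsval : ∀ v : Vec, (s.1 v : ℕ) = s0C v := fun v => hs ▸ s0V_val v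
  have htfix : ∀ v : Vec, s0C v = v → t.1 v = v := fun v hv => by
    have := hfix (γ.1 v) (by rw [e, fixV_conj]; exact ⟨v, Fin.ext ((hsval v).trans hv), rfl⟩)
    rw [ht, agrp_mul_apply, agrp_mul_apply, this, agrp_apply_inv]
  by_cases ht1 : t = 1
  · exact Or.inl (by rw [eτ, ht1]; group)
  have htt : t * t = 1 := by
    rw [ht, show γ⁻¹ * τ * γ * (γ⁻¹ * τ * γ) = γ⁻¹ * (τ * τ) * γ by group, ht2]; group
  have htL : t.1 ∈ Lgrp := by
    by_contra hn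
    have h5 : t.1 v5 = v5 := htfix v5 ((basL_fix 5 (by simp [basL])).2)
    have h10 : t.1 (omV v5) = omV v5 := htfix (omV v5) ((basL_fix 10 (by simp [basL])).2)
    have e1 := DFunLike.congr_fun (omP_swap t.2 hn) v5
    rw [Equiv.Perm.mul_apply, Equiv.Perm.mul_apply, omP_apply, h5, h10] at e1
    exact absurd e1 (by decide +kernel)
  have key : t = s ∨ ((∃ q, t = tvA q) ∧ ∃ p, s * t = tvA p) ∨ ¬ Commute yA t := by
    rw [hs]
    rcases inner_cases htL htt ht1 with ⟨q, rfl⟩ | ⟨q, r, hadj, rfl⟩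
    · rcases Bool.or_eq_true_iff.1 (allBelow_spec _ _ odd_one q q.2) with h | h
      · exact (oddCase_spec (fun v => tvA_val q v) htfix h).imp_right Or.inr
      · exact Or.inr (Or.inl ⟨⟨q, rfl⟩, tvCase_spec (fun v => tvA_val q v) h⟩)
    · have h := allBelow_spec _ _ (allBelow_spec _ _ odd_two q q.2) r r.2
      rw [show adjB q r = true from hadj, Bool.not_true, Bool.false_or] at h
      exact (oddCase_spec (fun v => rfl) htfix h).imp_right Or.inr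
  rcases key with h | ⟨⟨q, hq⟩, p, h⟩ | h
  · exact Or.inr (Or.inl (by rw [eτ, e, h]))
  · refine Or.inr (Or.inr (Or.inl ⟨⟨aHom γ q, by rw [← tvA_conj, ← hq]; exact eτ⟩, aHom γ p, ?_⟩))
    rw [← tvA_conj, ← h, e, eτ]; group
  · refine Or.inr (Or.inr (Or.inr ⟨γ * yA * γ⁻¹, lin_conj γ.2 yA_mem,
      conj_pow_three (cube_of yA_val fun v => (odd_facts v).2.2.1), ?_, fun hc => h ?_⟩))
    · rw [e]
      exact (commute_of yA_val hsval fun v => (odd_facts v).2.2.2.2.2.2).map (MulAut.conj γ).toMonoidHom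
    · rw [eτ] at hc
      exact commute_of_conj hc

/-! ### Outer involutions -/

theorem outerCase_spec {π s : Agrp} {f : ℕ → ℕ} {k : Fin 2} (hf : ∀ v : Vec, (π.1 v : ℕ) = f v)
    (hs : ∀ v : Vec, (s.1 v : ℕ) = repC' k v)
    (hπ : ∀ v : Vec, s.1 v = v → q0 v = 0 → π.1 v = v)
    (hπ' : ∀ v : Vec, (π * s).1 v = v → q0 v = 0 → s.1 v = v) (h : outerCase k f = true) : False := by
  simp only [outerCase, Bool.or_eq_true, Bool.and_eq_true, Bool.not_eq_true', ← Bool.not_eq_true, fixList,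
    List.all_eq_true, List.any_eq_true, List.mem_range, Nat.beq_eq] at h
  rcases h with h | ⟨v, hv, ⟨h1, h2⟩, h3⟩
  · refine h fun w hw => ?_
    obtain ⟨hlt, hr, hq⟩ := singFix_spec k w hw
    exact (hf ⟨w, hlt⟩).symm.trans (congrArg Fin.val (hπ ⟨w, hlt⟩ (Fin.ext ((hs ⟨w, hlt⟩).trans hr)) hq))
  · refine h3 ?_
    have e : (π * s).1 ⟨v, hv⟩ = ⟨v, hv⟩ := Fin.ext (by rw [agrp_mul_apply, hf, hs]; exact h1)
    exact (hs ⟨v, hv⟩).symm.trans (congrArg Fin.val (hπ' ⟨v, hv⟩ e h2))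

theorem outer_pair {σ τ : Agrp} (hσ : σ.1 ∉ Lgrp) (hτ : τ.1 ∉ Lgrp) (hs2 : σ * σ = 1) (ht2 : τ * τ = 1)
    (hc : Commute σ τ) (h : ∀ v ∈ fixV σ, q0 v = 0 → τ.1 v = v) (h' : ∀ v ∈ fixV τ, q0 v = 0 → σ.1 v = v) :
    σ = τ := by
  classical
  obtain ⟨k, γ, hγ, e⟩ := outer_cases hσ hs2
  obtain ⟨s, hs⟩ : ∃ s : Agrp, s = ⟨repV' k, repV_mem k⟩ := ⟨_, rfl⟩
  rw [← hs] at e
  obtain ⟨t, ht⟩ : ∃ t, t = γ⁻¹ * τ * γ := ⟨_, rfl⟩
  have eτ : τ = γ * t * γ⁻¹ := by rw [ht]; group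
  have hsval : ∀ v : Vec, (s.1 v : ℕ) = repC' k v := fun v => hs ▸ repV_val k v
  have hss : s * s = 1 := by
    rw [e, show γ * s * γ⁻¹ * (γ * s * γ⁻¹) = γ * (s * s) * γ⁻¹ by group, mul_inv_eq_one] at hs2
    exact mul_eq_left.1 hs2
  have htt : t * t = 1 := by
    rw [ht, show γ⁻¹ * τ * γ * (γ⁻¹ * τ * γ) = γ⁻¹ * (τ * τ) * γ by group, ht2]; group
  have hst : Commute s t := by
    rw [e, eτ] at hc
    exact commute_of_conj hc
  have hfix : ∀ v : Vec, s.1 v = v → q0 v = 0 → t.1 v = v := fun v hv hq => by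
    have := h (γ.1 v) (by rw [e, fixV_conj]; exact ⟨v, hv, rfl⟩) (by rw [semi_q γ.2]; exact hq)
    rw [ht, agrp_mul_apply, agrp_mul_apply, this, agrp_apply_inv]
  have hfix' : ∀ v : Vec, t.1 v = v → q0 v = 0 → s.1 v = v := fun v hv hq => by
    have := h' (γ.1 v) (by rw [eτ, fixV_conj]; exact ⟨v, hv, rfl⟩) (by rw [semi_q γ.2]; exact hq)
    rw [e, agrp_mul_apply, agrp_mul_apply, agrp_apply_inv] at this
    exact γ.1.injective this
  obtain ⟨π, hπ⟩ : ∃ π, π = t * s := ⟨_, rfl⟩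
  have etπ : t = π * s := by rw [hπ, mul_assoc, hss, mul_one]
  by_cases hπ1 : π = 1
  · rw [e, eτ, etπ, hπ1, one_mul]
  exfalso
  have hπ2 : π * π = 1 := by
    rw [hπ, hst.mul_mul_mul_comm, htt, hss, one_mul]
  have hπL : π.1 ∈ Lgrp := by
    rw [hπ]
    refine outer_mul t.2 s.2 (fun hl => hτ ?_) fun hl => hσ ?_
    · rw [eτ]; exact lin_conj γ.2 hl
    · rw [e]; exact lin_conj γ.2 hl
  have hπfix : ∀ v : Vec, s.1 v = v → q0 v = 0 → π.1 v = v := fun v hv hq => by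
    rw [hπ, agrp_mul_apply, hv, hfix v hv hq]
  have hπfix' : ∀ v : Vec, (π * s).1 v = v → q0 v = 0 → s.1 v = v := fun v hv hq =>
    hfix' v (by rw [etπ]; exact hv) hq
  rcases inner_cases hπL hπ2 hπ1 with ⟨q, rfl⟩ | ⟨q, r, hadj, rfl⟩
  · exact outerCase_spec (fun v => tvA_val q v) hsval hπfix hπfix'
      (allBelow_spec _ _ (allBelow_spec _ _ outer_one k k.2) q q.2)
  · have h0 := allBelow_spec _ _ (allBelow_spec _ _ (allBelow_spec _ _ outer_two k k.2) q q.2) r r.2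
    rw [show adjB q r = true from hadj, Bool.not_true, Bool.false_or] at h0
    exact outerCase_spec (fun v => rfl) hsval hπfix hπfix' h0

/-! ### Products of commuting transvections -/

theorem tv_comm' {p q : Pt} (h : p = q ∨ adjP p q) : Commute (tvP p) (tvP q) := by
  rcases h with rfl | h
  · exact Commute.refl _
  · exact tv_comm h

theorem tv_inv (p : Pt) : (tvP p)⁻¹ = tvP p := inv_eq_of_mul_eq_one_right (tvP_sq p)

theorem tv_eq_of_mul {p q : Pt} (h : tvP p * tvP q = 1) : p = q :=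
  tvP_inj ((eq_inv_of_mul_eq_one_left h).trans (tv_inv q))

theorem not_four {p q r s : Pt} (hpq : adjP p q) (hpr : adjP p r) (hqr : adjP q r) :
    tvP p * tvP q * tvP r ≠ tvP s := by
  intro h
  have cpq : Commute (tvP p) (tvP q) := tv_comm hpq
  have cpr : Commute (tvP p) (tvP r) := tv_comm hpr
  have cqr : Commute (tvP q) (tvP r) := tv_comm hqr
  have hsub : {x | tvP s x = x} ⊆ {x | (tvP p * tvP q) x = x} := fun x hx => by
    have hx' : (tvP p * tvP q * tvP r) x = x := by rw [h]; exact hx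
    have h1 : x = p ∨ adjP p x := U62Aut.geo.fix_three p q r hpq hpr hqr x hx'
    have h2 : x = q ∨ adjP q x := U62Aut.geo.fix_three q p r (adj_symm hpq) hqr hpr x (by
      show (tvP q * tvP p * tvP r) x = x
      rw [← cpq.eq]; exact hx')
    show tvP p (tvP q x) = x
    rw [tvP_fix (h2.imp Eq.symm id), tvP_fix (h1.imp Eq.symm id)]
  have h5 : {x | (tvP p * tvP q) x = x}.ncard ≤ 5 := U62Aut.geo.fix_two p q hpq
  have := (Set.ncard_le_ncard hsub (Set.toFinite _)).trans h5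
  rw [tv_nfix] at this
  omega

theorem four_tv {p q r s : Pt} (hpq : p = q ∨ adjP p q) (hpr : p = r ∨ adjP p r) (hps : p = s ∨ adjP p s)
    (hqr : q = r ∨ adjP q r) (hqs : q = s ∨ adjP q s) (hrs : r = s ∨ adjP r s)
    (h : tvP p * tvP q * tvP r * tvP s = 1) : (p = q ∧ r = s) ∨ (p = r ∧ q = s) ∨ (p = s ∧ q = r) := by
  have h2 : tvP p * tvP q = tvP s * tvP r := by
    have := eq_inv_of_mul_eq_one_left (show tvP p * tvP q * (tvP r * tvP s) = 1 by rw [← mul_assoc]; exact h)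
    rwa [mul_inv_rev, tv_inv, tv_inv] at this
  rcases hpq with rfl | hpq
  · exact Or.inl ⟨rfl, (tv_eq_of_mul (by rw [← h2, tvP_sq])).symm⟩
  rcases hpr with rfl | hpr
  · refine Or.inr (Or.inl ⟨rfl, tvP_inj ?_⟩)
    rw [(tv_comm' hps).eq.symm] at h2
    exact mul_left_cancel h2
  rcases hqr with rfl | hqr
  · exact Or.inr (Or.inr ⟨tvP_inj (mul_right_cancel h2), rfl⟩)
  refine absurd ?_ (not_four (s := s) hpq hpr hqr)
  rw [h2, mul_assoc, tvP_sq, mul_one]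

theorem exists_five : ∃ l : Fin 5 → Pt, Function.Injective l ∧ (∀ i j, i ≠ j → adjP (l i) (l j)) ∧
    tvP (l 0) * tvP (l 1) * tvP (l 2) * tvP (l 3) * tvP (l 4) = 1 ∧
    {v : Vec | ∃ a ∈ imV (tvA (l 2)), ∃ b ∈ imV (tvA (l 3)), ∃ c ∈ imV (tvA (l 4)),
      v = xorV (xorV a b) c}.ncard ≤ 16 := by
  classical
  obtain ⟨-, hadj, hprod, him⟩ := five_facts
  let l : Fin 5 → Pt := ![⟨0, by norm_num⟩, ⟨15, by norm_num⟩, ⟨16, by norm_num⟩, ⟨20, by norm_num⟩, ⟨24, by norm_num⟩]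
  refine ⟨l, by decide, by decide +kernel, ?_, ?_⟩
  · rw [← aHom_tvA, ← aHom_tvA, ← aHom_tvA, ← aHom_tvA, ← aHom_tvA, ← map_mul, ← map_mul, ← map_mul, ← map_mul]
    refine (congrArg aHom (agrp_ext fun v => ?_)).trans (map_one aHom)
    exact hprod v
  · obtain ⟨s, hs⟩ : ∃ s : Agrp, s = ⟨s0V, lin_le s0V_mem⟩ := ⟨_, rfl⟩
    have hsub : ∀ i : Pt, (i : ℕ) ∈ [16, 20, 24] → imV (tvA i) ⊆ fixV s := by
      rintro i hi _ ⟨y, rfl⟩
      refine Fin.ext ?_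
      rw [hs]
      show (s0V _ : ℕ) = _
      rw [s0V_val]
      exact him _ hi y
    refine (Set.ncard_le_ncard (t := fixV s) ?_ (Set.toFinite _)).trans (le_of_eq ?_)
    · rintro _ ⟨a, ha, b, hb, c, hc, rfl⟩
      show s.1 _ = _
      rw [semi_xor s.2, semi_xor s.2, show s.1 a = a from hsub (l 2) (by decide) ha,
        show s.1 b = b from hsub (l 3) (by decide) hb, show s.1 c = c from hsub (l 4) (by decide) hc]
    · rw [ncard_fixV (f := s0C) fun v => hs ▸ s0V_val v]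
      exact s0_count

end Cfsg.Agent.Fi22Two
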