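import Cfsg.Agent.Lib.U62Rec.Red.Build

/-!
A totally singular subspace of the three planes has at most four elements.
-/

set_option autoImplicit false
set_option maxRecDepth 20000

namespace Cfsg.Agent.Fi22Two

open U62Rec.Model

theorem sing_small : ∀ c ∈ singC, ∀ d ∈ singC, c ≠ d → bC c d = 0 →
    (singC.filter fun e => bC c e = 0 ∧ bC d e = 0).card ≤ 3 := by
  decide +kernel

end Cfsg.Agent.Fi22Two
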